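import Cfsg.Agent.Lib.Helper50.RU.Defs

set_option autoImplicit false

namespace Cfsg.Agent.Lib.Helper50.RU

open Cfsg.Agent.Lib.Helper50.Herm Cfsg.Agent.Lib.Helper50.GUConj Cfsg.Agent.Lib.Helper50.CC Cfsg.Agent.Lib.Helper48

variable {K : Type*} [Field K] [Fintype K] {q n : ℕ}

open Module LinearMap Polynomial in
theorem cen1_nilp (hn : 1 ≤ n) (u g : Matrix.GeneralLinearGroup (Fin n) K)
    (h1 : (u.1 - 1) ^ n = 0) (h2 : (u.1 - 1).rank = n - 1) (hc : Commute g u) :
    ∃ c : K, IsNilpotent (g.1 - c • (1 : Matrix (Fin n) (Fin n) K)) := by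
  have hc' : g ∈ Subgroup.centralizer ({u} : Set (Matrix.GeneralLinearGroup (Fin n) K)) := by
    rw [Subgroup.mem_centralizer_singleton_iff]; exact hc.eq
  rw [mem_centralizer_iff_commute] at hc'
  obtain ⟨a1, a2⟩ := Cfsg.Agent.S2578.reg_end (u.1 - 1) h1 h2
  obtain ⟨P, hP⟩ := exists_eq_aeval_of_commute _ a1 a2 (by rw [Module.finrank_fin_fun]; omega) _ hc'
  refine ⟨P.coeff 0, ?_⟩
  set N : End K (Fin n → K) := Matrix.mulVecLin (u.1 - 1) with hN
  have e1 : aeval N P = algebraMap K (End K (Fin n → K)) (P.coeff 0) + aeval N (divX P) * N := by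
    conv_lhs => rw [← divX_mul_X_add P]
    rw [map_add, map_mul, aeval_X, aeval_C, add_comm]
  have hnilE : IsNilpotent (aeval N (divX P) * N) :=
    (commute_aeval (Commute.refl N) (divX P)).symm.isNilpotent_mul_left ⟨_, a2⟩
  obtain ⟨k, hk⟩ := hnilE
  refine ⟨k, ?_⟩
  apply (Matrix.toLinAlgEquiv' (R := K) (n := Fin n)).injective
  rw [map_pow, map_sub, map_smul, map_one, map_zero, ← hk]
  congr 1
  have e2 : Matrix.toLinAlgEquiv' (R := K) (n := Fin n) g.1 = aeval N P := by rw [← hP]; rfl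
  rw [e2, e1, Algebra.algebraMap_eq_smul_one, add_sub_cancel_left]

open Polynomial in
/-- CEN1. -/
theorem charpoly_of_commute (hn : 1 ≤ n) (u₀ g : Matrix.GeneralLinearGroup (Fin n) K)
    (h0 : Reg (u₀ : Matrix (Fin n) (Fin n) K)) (hc : Commute g u₀) :
    ∃ c : K, (g : Matrix (Fin n) (Fin n) K).charpoly = (Polynomial.X - Polynomial.C c) ^ n := by
  obtain ⟨c, hM⟩ := cen1_nilp hn u₀ g h0.1 h0.2 hc
  refine ⟨c, ?_⟩
  have h1 := Matrix.isNilpotent_charpoly_sub_pow_of_isNilpotent hM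
  have h2 : (g.1 - c • (1 : Matrix (Fin n) (Fin n) K)).charpoly = X ^ n := by
    have := h1.eq_zero
    rw [Fintype.card_fin] at this
    exact sub_eq_zero.mp this
  have h3 : c • (1 : Matrix (Fin n) (Fin n) K) = Matrix.scalar (Fin n) c := by
    rw [Matrix.smul_one_eq_diagonal]; rfl
  rw [h3, Matrix.charpoly_sub_scalar] at h2
  have h4 := congrArg (fun f : K[X] => f.comp (X - C c)) h2
  simp only [comp_assoc, add_comp, X_comp, C_comp, sub_add_cancel, comp_X, pow_comp] at h4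
  exact h4

end Cfsg.Agent.Lib.Helper50.RU
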