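import Cfsg.Agent.Lib.Helper50.RU.Defs
import Cfsg.Agent.Lib.Helper65.UU.Reg

set_option autoImplicit false

namespace Cfsg.Agent.Lib.Helper50.RU

open Cfsg.Agent.Lib.Helper50.Herm Cfsg.Agent.Lib.Helper50.GUConj Cfsg.Agent.Lib.Helper50.CC Cfsg.Agent.Lib.Helper48

variable {K : Type*} [Field K] [Fintype K] {q n : ℕ}

open Polynomial in
/-- CEN2. -/
theorem det_of_charpoly (hK : Fintype.card K = q ^ 2) (hn : 1 ≤ n) (g : Matrix.GeneralLinearGroup (Fin n) K)
    (hg : g ∈ Cfsg.GU n K q) (c : K)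
    (hc : (g : Matrix (Fin n) (Fin n) K).charpoly = (Polynomial.X - Polynomial.C c) ^ n) :
    ∃ c' : Kˣ, c' ^ (q + 1) = 1 ∧ Matrix.GeneralLinearGroup.det g = c' ^ n := by
  have h1 := Matrix.aeval_self_charpoly (g : Matrix (Fin n) (Fin n) K)
  rw [hc, map_pow, map_sub, aeval_X, aeval_C, Algebra.algebraMap_eq_smul_one] at h1
  have h2 : c ^ (q + 1) = 1 := Cfsg.Agent.Lib.Helper65.UU.norm_one_of_nilp hK hn g.1
    ((mem_GU_iff_dag hK g).mp hg) c ⟨n, h1⟩
  have hc0 : c ≠ 0 := by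
    rintro rfl
    rw [zero_pow (by omega)] at h2
    exact zero_ne_one h2
  refine ⟨Units.mk0 c hc0, Units.ext (by simpa using h2), ?_⟩
  apply Units.ext
  have h3 : (g : Matrix (Fin n) (Fin n) K).det = c ^ n := by
    rw [Matrix.det_eq_sign_charpoly_coeff, hc, coeff_zero_eq_eval_zero, eval_pow, eval_sub, eval_X,
      eval_C, Fintype.card_fin, ← mul_pow]
    simp
  simpa using h3

end Cfsg.Agent.Lib.Helper50.RU
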