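import Cfsg.Agent.Lib.Helper50.RU.Defs

set_option autoImplicit false

namespace Cfsg.Agent.Lib.Helper50.RU

open Cfsg.Agent.Lib.Helper50.Herm Cfsg.Agent.Lib.Helper50.GUConj Cfsg.Agent.Lib.Helper50.CC Cfsg.Agent.Lib.Helper48

variable {K : Type*} [Field K] [Fintype K] {q n : ℕ}

/-- CJG. -/
theorem reg_gl_conj (hn : 1 ≤ n) (A B : Matrix.GeneralLinearGroup (Fin n) K)
    (hA : Reg (A : Matrix (Fin n) (Fin n) K)) (hB : Reg (B : Matrix (Fin n) (Fin n) K)) :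
    ∃ g : Matrix.GeneralLinearGroup (Fin n) K, g * A * g⁻¹ = B := by
  obtain ⟨g, hg⟩ := Cfsg.Agent.S2578.conj_of_reg hn _ _ hA.1 hA.2 hB.1 hB.2
  refine ⟨g, ?_⟩
  rw [mul_inv_eq_iff_eq_mul]
  apply Units.ext
  rw [Units.val_mul, Units.val_mul]
  rw [mul_sub, sub_mul, mul_one, one_mul] at hg
  exact sub_left_inj.1 hg

end Cfsg.Agent.Lib.Helper50.RU
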