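import Cfsg.Agent.Lib.Helper50.RU.CJI
import Cfsg.Agent.Lib.Helper50.RU.CJG

set_option autoImplicit false

namespace Cfsg.Agent.Lib.Helper50.RU

open Cfsg.Agent.Lib.Helper50.Herm Cfsg.Agent.Lib.Helper50.GUConj Cfsg.Agent.Lib.Helper48 Matrix

variable {K : Type*} [Field K] [Fintype K] {q n : ℕ}

/-- EX. -/
theorem exists_reg (hK : Fintype.card K = q ^ 2) (hn : 1 ≤ n) :
    ∃ u : ↥(Cfsg.SU n K q), Reg ((Matrix.SpecialLinearGroup.toGL u.1 : Matrix.GeneralLinearGroup (Fin n) K) :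
      Matrix (Fin n) (Fin n) K) := by
  have h2 := two_le_q hK
  obtain ⟨Am, hAm⟩ : ∃ Am : Matrix (Fin n) (Fin n) K, Am = Cfsg.jordanBlock n K := ⟨_, rfl⟩
  have hdet : Am.det = 1 := by rw [hAm]; exact jordanBlock_det
  have hreg : Reg Am := by rw [hAm]; exact ⟨jordanBlock_sub_one_pow, jordanBlock_sub_one_rank⟩
  have hdag : dag hK Am = Amᵀ := by
    ext i j
    rw [dag_apply, transpose_apply, hAm]
    unfold Cfsg.jordanBlock
    rw [Matrix.of_apply]
    split_ifs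
    · simp
    · simp
    · rw [zero_pow (by omega)]
  let A : Matrix.GeneralLinearGroup (Fin n) K :=
    Matrix.GeneralLinearGroup.mkOfDetNeZero Am (by rw [hdet]; exact one_ne_zero)
  let B : Matrix.GeneralLinearGroup (Fin n) K :=
    Matrix.GeneralLinearGroup.mkOfDetNeZero Amᵀ (by rw [det_transpose, hdet]; exact one_ne_zero)
  have hA : (A : Matrix (Fin n) (Fin n) K) = Am := rfl
  have hB : (B : Matrix (Fin n) (Fin n) K) = Amᵀ := rfl
  have hregB : Reg (B : Matrix (Fin n) (Fin n) K) := by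
    have h1 : Amᵀ - 1 = (Am - 1)ᵀ := by rw [transpose_sub, transpose_one]
    rw [hB]
    exact ⟨by rw [h1, ← transpose_pow, hreg.1, transpose_zero], by rw [h1, rank_transpose, hreg.2]⟩
  obtain ⟨Ai, hAi⟩ : ∃ Ai : Matrix (Fin n) (Fin n) K, Ai = ((A⁻¹ : Matrix.GeneralLinearGroup (Fin n) K) :
      Matrix (Fin n) (Fin n) K) := ⟨_, rfl⟩
  have hAiA : Ai * Am = 1 := by rw [hAi, ← hA, ← Units.val_mul, inv_mul_cancel]; rfl
  have hAAi : Am * Ai = 1 := by rw [hAi, ← hA, ← Units.val_mul, mul_inv_cancel]; rfl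
  have hregI : Reg ((A⁻¹ : Matrix.GeneralLinearGroup (Fin n) K) : Matrix (Fin n) (Fin n) K) := by
    rw [← hAi]
    have h1 : Ai - 1 = (-Ai) * (Am - 1) := by
      rw [mul_sub, neg_mul, hAiA, mul_one]; abel
    have hcomm : Commute (-Ai) (Am - 1) := by
      show (-Ai) * (Am - 1) = (Am - 1) * (-Ai)
      rw [mul_sub, sub_mul, neg_mul, mul_neg, hAiA, hAAi, mul_one, one_mul]
    constructor
    · rw [h1, hcomm.mul_pow, hreg.1, mul_zero]
    · rw [h1, rank_mul_eq_right_of_isUnit_det, hreg.2]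
      rw [← Matrix.isUnit_iff_isUnit_det]
      exact IsUnit.neg (by rw [hAi]; exact (A⁻¹).isUnit)
  obtain ⟨x, hx⟩ := reg_gl_conj hn _ _ hregI hregB
  have hx' : dag hK (A : Matrix (Fin n) (Fin n) K) * (x : Matrix (Fin n) (Fin n) K) *
      (A : Matrix (Fin n) (Fin n) K) = (x : Matrix (Fin n) (Fin n) K) := by
    rw [hA, hdag, ← hB, ← hA, ← Units.val_mul, ← Units.val_mul, ← hx]
    congr 1
    group
  obtain ⟨z, hz⟩ := exists_conj_mem_GU hK A x hx'
  have hd1 : detGU n ⟨z * A * z⁻¹, hz⟩ = 1 := by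
    show Matrix.GeneralLinearGroup.det (z * A * z⁻¹) = 1
    rw [map_mul, map_mul, map_inv, mul_comm, ← mul_assoc, inv_mul_cancel, one_mul]
    apply Units.ext
    exact hdet
  obtain ⟨s, hs⟩ := (detGU_eq_one_iff n _).1 hd1
  refine ⟨s, ?_⟩
  have h3 : Matrix.SpecialLinearGroup.toGL s.1 = z * A * z⁻¹ := congrArg Subtype.val hs
  rw [h3]
  exact reg_conj z A hreg

end Cfsg.Agent.Lib.Helper50.RU
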